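/-
Canonical tables of permutations of the 24 points, and 2-groups given by polycyclic tables.
-/
import Cfsg.Agent.Mathieu.Tables

set_option autoImplicit false

namespace CfsgLib.FusionSimple.MathieuTab

open Cfsg CfsgLib.Mathieu

/-- The packed table with the given 24 entries. -/
def pack (f : ℕ → ℕ) : ℕ := (List.range 24).foldr (fun i acc => acc * 256 + f i) 0

theorem app_zero (a : ℕ) {b : ℕ} (hb : b < 256) : app (a * 256 + b) 0 = b := by
  simp only [app, Nat.mul_zero, Nat.shiftRight_zero]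
  rw [Nat.mul_comm a 256, Nat.mul_add_mod, Nat.mod_eq_of_lt hb]

theorem app_succ (a : ℕ) {b : ℕ} (hb : b < 256) (i : ℕ) :
    app (a * 256 + b) (i + 1) = app a i := by
  simp only [app, Nat.shiftRight_eq_div_pow]
  rw [show 2 ^ (8 * (i + 1)) = 256 * 2 ^ (8 * i) by rw [Nat.mul_add, pow_add]; ring,
    ← Nat.div_div_eq_div_mul]
  congr 2
  omega

theorem app_foldr_range' {f : ℕ → ℕ} (hf : ∀ i, f i < 256) : ∀ (n s i : ℕ), i < n →
    app ((List.range' s n).foldr (fun i acc => acc * 256 + f i) 0) i = f (s + i)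
  | 0, _, _, h => absurd h (by omega)
  | n + 1, s, 0, _ => by
    rw [List.range'_succ, List.foldr_cons, app_zero _ (hf s), Nat.add_zero]
  | n + 1, s, i + 1, h => by
    rw [List.range'_succ, List.foldr_cons, app_succ _ (hf s),
      app_foldr_range' hf n (s + 1) i (by omega)]
    congr 1
    omega

theorem app_pack {f : ℕ → ℕ} (hf : ∀ i, f i < 256) {i : ℕ} (hi : i < 24) :
    app (pack f) i = f i := by
  rw [pack, List.range_eq_range', app_foldr_range' hf 24 0 i hi, Nat.zero_add]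

theorem pack_congr {f g : ℕ → ℕ} (h : ∀ i < 24, f i = g i) : pack f = pack g := by
  unfold pack
  refine List.foldr_ext _ _ _ fun i hi acc => ?_
  rw [h i (List.mem_range.1 hi)]

/-- The table of a permutation. -/
def tab (σ : Equiv.Perm GolayPt) : ℕ := pack fun i => idx (σ (pt i))

theorem app_tab (σ : Equiv.Perm GolayPt) {i : ℕ} (hi : i < 24) :
    app (tab σ) i = idx (σ (pt i)) :=
  app_pack (fun _ => lt_trans (idx_lt _) (by norm_num)) hi

theorem app_tab_idx (σ : Equiv.Perm GolayPt) (q : GolayPt) :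
    app (tab σ) (idx q) = idx (σ q) := by
  rw [app_tab σ (idx_lt q), pt_idx]

theorem tab_injective : Function.Injective tab := fun σ τ h => Equiv.ext fun q =>
  idx_injective (by rw [← app_tab_idx, h, app_tab_idx])

/-- The table of a product. -/
def mulT (a b : ℕ) : ℕ := pack fun i => app a (app b i)

theorem mulT_tab (σ τ : Equiv.Perm GolayPt) : mulT (tab σ) (tab τ) = tab (σ * τ) :=
  pack_congr fun i hi => by rw [app_tab τ hi, app_tab_idx]; rfl

/-- The table of the identity. -/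
def idT : ℕ := pack fun i => i

theorem tab_one : tab 1 = idT := pack_congr fun _ hi => idx_pt hi

/-- Whether a table is the canonical one of its entries. -/
def canon (t : ℕ) : Bool := pack (app t) == t

theorem exists_tab {G : Subgroup (Equiv.Perm GolayPt)} {t : ℕ} (h : InGroup enc G t)
    (hc : canon t = true) : ∃ σ ∈ G, t = tab σ := by
  obtain ⟨σ, hσ, r⟩ := h
  refine ⟨σ, hσ, ((beq_iff_eq.1 hc).symm.trans (pack_congr fun i hi => ?_))⟩
  have h1 := r (pt i)
  change app t (idx (pt i)) = idx (σ (pt i)) at h1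
  rwa [idx_pt hi] at h1

/-! ### Polycyclic tables -/

/-- Conjugates of the earlier generators `gs` by `g` are the listed members of `L`. -/
def conjsOK (g : ℕ) (L : List ℕ) : List ℕ → List ℕ → Bool
  | [], _ => true
  | _ :: _, [] => false
  | a :: as, c :: cs => L.contains c && mulT g a == mulT c g && conjsOK g L as cs

theorem conjsOK_sound {g : ℕ} {L : List ℕ} : ∀ {gs cs : List ℕ}, conjsOK g L gs cs = true →
    ∀ a ∈ gs, ∃ c ∈ L, mulT g a = mulT c g
  | [], _, _, a, ha => absurd ha (by simp)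
  | b :: bs, [], h, _, _ => by simp [conjsOK] at h
  | b :: bs, c :: cs, h, a, ha => by
    simp only [conjsOK, Bool.and_eq_true, beq_iff_eq] at h
    rcases List.mem_cons.1 ha with rfl | ha
    · exact ⟨c, List.contains_iff_mem.1 h.1.1, h.1.2⟩
    · exact conjsOK_sound h.2 a ha

/-- A polycyclic presentation by tables: each generator squares into, and normalizes, the group
of the earlier ones. -/
def pcOK (inG : ℕ → Bool) : List (ℕ × List ℕ) → List ℕ → List ℕ → Bool
  | [], _, _ => true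
  | (g, cs) :: rest, gs, L =>
    inG g && canon g && !L.contains g && L.contains (mulT g g) && conjsOK g L gs cs &&
      pcOK inG rest (g :: gs) (L ++ L.map (mulT g))

/-- The generators of a polycyclic table, latest first. -/
def pcGens : List (ℕ × List ℕ) → List ℕ → List ℕ
  | [], gs => gs
  | (g, _) :: rest, gs => pcGens rest (g :: gs)

/-- The members of the group of a polycyclic table. -/
def pcElts : List (ℕ × List ℕ) → List ℕ → List ℕ
  | [], L => L
  | (g, _) :: rest, L => pcElts rest (L ++ L.map (mulT g))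

/-- The group `H` has order `2 ^ k`, table list `L` and generator tables `gs`. -/
structure IsTabGroup (G H : Subgroup (Equiv.Perm GolayPt)) (gs L : List ℕ) (k : ℕ) : Prop where
  le : H ≤ G
  card : Nat.card H = 2 ^ k
  mem : ∀ t, t ∈ L ↔ ∃ σ ∈ H, t = tab σ
  gen : H = Subgroup.closure {σ | tab σ ∈ gs}
  tabs : ∀ t ∈ gs, ∃ σ, t = tab σ

theorem IsTabGroup.mem_iff {G H : Subgroup (Equiv.Perm GolayPt)} {gs L : List ℕ} {k : ℕ}
    (h : IsTabGroup G H gs L k) (σ : Equiv.Perm GolayPt) : tab σ ∈ L ↔ σ ∈ H := by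
  rw [h.mem]
  exact ⟨fun ⟨τ, hτ, e⟩ => tab_injective e ▸ hτ, fun hσ => ⟨σ, hσ, rfl⟩⟩

theorem isTabGroup_bot (G : Subgroup (Equiv.Perm GolayPt)) : IsTabGroup G ⊥ [] [idT] 0 := by
  refine ⟨bot_le, by simp, fun t => ?_, by simp, by simp⟩
  constructor
  · intro ht
    exact ⟨1, one_mem _, by rw [tab_one]; simpa using ht⟩
  · rintro ⟨σ, hσ, rfl⟩
    rw [Subgroup.mem_bot.1 hσ, tab_one]
    simp

theorem IsTabGroup.succ {G H : Subgroup (Equiv.Perm GolayPt)} {gs L : List ℕ} {k : ℕ}
    (h : IsTabGroup G H gs L k) {γ : Equiv.Perm GolayPt} (hγ : γ ∈ G) (hn : γ ∉ H)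
    (hsq : γ * γ ∈ H) (hconj : ∀ a, tab a ∈ gs → ∃ c ∈ H, γ * a = c * γ) :
    ∃ H', IsTabGroup G H' (tab γ :: gs) (L ++ L.map (mulT (tab γ))) (k + 1) := by
  have hc : ∀ a ∈ H, γ * a * γ⁻¹ ∈ H := by
    intro a ha
    have hle : H ≤ H.comap (MulAut.conj γ).toMonoidHom := by
      conv_lhs => rw [h.gen]
      rw [Subgroup.closure_le]
      intro a ha
      obtain ⟨c, hc, e⟩ := hconj a ha
      show γ * a * γ⁻¹ ∈ H
      rw [e, mul_inv_cancel_right]
      exact hc
    exact hle ha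
  have hci : ∀ a ∈ H, γ⁻¹ * a * γ ∈ H := by
    intro a ha
    have h1 := mul_mem (mul_mem (inv_mem hsq) (hc a ha)) hsq
    have e : γ⁻¹ * a * γ = (γ * γ)⁻¹ * (γ * a * γ⁻¹) * (γ * γ) := by group
    rw [e]; exact h1
  let H' : Subgroup (Equiv.Perm GolayPt) :=
    { carrier := (H : Set (Equiv.Perm GolayPt)) ∪ (γ * ·) '' (H : Set (Equiv.Perm GolayPt))
      one_mem' := Or.inl (one_mem H)
      mul_mem' := by
        rintro a b (ha | ⟨a, ha, rfl⟩) (hb | ⟨b, hb, rfl⟩)
        · exact Or.inl (mul_mem ha hb)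
        · exact Or.inr ⟨γ⁻¹ * a * γ * b, mul_mem (hci a ha) hb,
            show γ * (γ⁻¹ * a * γ * b) = a * (γ * b) by group⟩
        · exact Or.inr ⟨a * b, mul_mem ha hb, (mul_assoc γ a b).symm⟩
        · left
          have e : γ * a * (γ * b) = (γ * a * γ⁻¹) * (γ * γ) * b := by group
          show γ * a * (γ * b) ∈ H
          rw [e]
          exact mul_mem (mul_mem (hc a ha) hsq) hb
      inv_mem' := by
        rintro a (ha | ⟨a, ha, rfl⟩)
        · exact Or.inl (inv_mem ha)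
        · refine Or.inr ⟨γ⁻¹ * a⁻¹ * γ * (γ * γ)⁻¹,
            mul_mem (hci _ (inv_mem ha)) (inv_mem hsq), ?_⟩
          show γ * (γ⁻¹ * a⁻¹ * γ * (γ * γ)⁻¹) = (γ * a)⁻¹
          group }
  have hmem : ∀ σ, σ ∈ H' ↔ σ ∈ H ∨ ∃ a ∈ H, γ * a = σ := fun σ => Iff.rfl
  have hHH' : H ≤ H' := fun a ha => Or.inl ha
  have hγ' : γ ∈ H' := Or.inr ⟨1, one_mem H, mul_one γ⟩
  refine ⟨H', ⟨?_, ?_, ?_, ?_, ?_⟩⟩
  · intro σ hσ
    rcases (hmem σ).1 hσ with hσ | ⟨a, ha, rfl⟩
    · exact h.le hσ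
    · exact mul_mem hγ (h.le ha)
  · show Nat.card ((H' : Set (Equiv.Perm GolayPt)) : Type) = _
    rw [Nat.card_coe_set_eq]
    show ((H : Set (Equiv.Perm GolayPt)) ∪ (γ * ·) '' (H : Set (Equiv.Perm GolayPt))).ncard = _
    have hd : Disjoint (H : Set (Equiv.Perm GolayPt))
        ((γ * ·) '' (H : Set (Equiv.Perm GolayPt))) := by
      rw [Set.disjoint_left]
      rintro x hx ⟨a, ha, rfl⟩
      exact hn (by simpa [mul_assoc] using mul_mem hx (inv_mem ha))
    rw [Set.ncard_union_eq hd, Set.ncard_image_of_injective _ (mul_right_injective γ),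
      ← Nat.card_coe_set_eq]
    show Nat.card H + Nat.card H = _
    rw [h.card, pow_succ]; ring
  · intro t
    rw [List.mem_append, List.mem_map]
    constructor
    · rintro (ht | ⟨s, hs, rfl⟩)
      · obtain ⟨σ, hσ, rfl⟩ := (h.mem t).1 ht
        exact ⟨σ, hHH' hσ, rfl⟩
      · obtain ⟨σ, hσ, rfl⟩ := (h.mem s).1 hs
        exact ⟨γ * σ, mul_mem hγ' (hHH' hσ), mulT_tab γ σ⟩
    · rintro ⟨σ, hσ, rfl⟩
      rcases (hmem σ).1 hσ with hσ | ⟨a, ha, rfl⟩
      · exact Or.inl ((h.mem_iff σ).2 hσ)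
      · exact Or.inr ⟨tab a, (h.mem_iff a).2 ha, mulT_tab γ a⟩
  · refine le_antisymm ?_ ((Subgroup.closure_le _).2 fun a ha => ?_)
    · have hle : H ≤ Subgroup.closure {σ | tab σ ∈ tab γ :: gs} := by
        conv_lhs => rw [h.gen]
        exact Subgroup.closure_mono fun a ha => List.mem_cons_of_mem _ ha
      intro σ hσ
      rcases (hmem σ).1 hσ with hσ | ⟨a, ha, rfl⟩
      · exact hle hσ
      · exact mul_mem (Subgroup.subset_closure (show tab γ ∈ tab γ :: gs from List.mem_cons_self))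
          (hle ha)
    · rcases List.mem_cons.1 (ha : tab a ∈ tab γ :: gs) with e | e
      · rw [tab_injective e]; exact hγ'
      · exact hHH' (by rw [h.gen]; exact Subgroup.subset_closure e)
  · intro t ht
    rcases List.mem_cons.1 ht with rfl | ht
    · exact ⟨γ, rfl⟩
    · exact h.tabs t ht

theorem exists_isTabGroup {G : Subgroup (Equiv.Perm GolayPt)} {inG : ℕ → Bool}
    (hG : ∀ t, inG t = true → InGroup enc G t) :
    ∀ (pc : List (ℕ × List ℕ)) {gs L : List ℕ} {k : ℕ} {H : Subgroup (Equiv.Perm GolayPt)},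
      IsTabGroup G H gs L k → pcOK inG pc gs L = true →
      ∃ H', IsTabGroup G H' (pcGens pc gs) (pcElts pc L) (k + pc.length)
  | [], _, _, _, H, h, _ => ⟨H, h⟩
  | (g, cs) :: rest, gs, L, k, H, h, hok => by
    simp only [pcOK, Bool.and_eq_true, Bool.not_eq_true', ← Bool.not_eq_true] at hok
    obtain ⟨⟨⟨⟨⟨h1, h2⟩, h3⟩, h4⟩, h5⟩, h6⟩ := hok
    obtain ⟨γ, hγ, rfl⟩ := exists_tab (hG g h1) h2
    rw [List.contains_iff_mem, h.mem_iff] at h3
    rw [List.contains_iff_mem, mulT_tab, h.mem_iff] at h4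
    have hconj : ∀ a, tab a ∈ gs → ∃ c ∈ H, γ * a = c * γ := by
      intro a ha
      obtain ⟨c, hc, e⟩ := conjsOK_sound h5 _ ha
      obtain ⟨κ, hκ, rfl⟩ := (h.mem c).1 hc
      rw [mulT_tab, mulT_tab] at e
      exact ⟨κ, hκ, tab_injective e⟩
    obtain ⟨H', hH'⟩ := h.succ hγ h3 h4 hconj
    obtain ⟨H'', hH''⟩ := exists_isTabGroup hG rest hH' h6
    refine ⟨H'', ?_⟩
    rw [List.length_cons, show k + (rest.length + 1) = k + 1 + rest.length by omega]
    exact hH''

end CfsgLib.FusionSimple.MathieuTab
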