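/-
Certificates that a tabulated 2-group is self-normalizing: an element of odd order normalizing it
fixes more and more points, by comparing orbit sizes of point stabilisers, until it is trivial.
-/
import Cfsg.Agent.FusionSimple.Mathieu.Tables

set_option autoImplicit false

namespace CfsgLib.FusionSimple.MathieuTab

open Cfsg CfsgLib.Mathieu

/-- Whether a table fixes the listed points. -/
def fixesPts (Y : List ℕ) (t : ℕ) : Bool := Y.all fun y => app t y == y

/-- Mask of the orbit of a point under listed tables. -/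
def orbMask (R : List ℕ) (j : ℕ) : ℕ := R.foldr (fun t m => m ||| 2 ^ app t j) 0

theorem testBit_orbMask (R : List ℕ) (j i : ℕ) :
    (orbMask R j).testBit i = true ↔ ∃ t ∈ R, app t j = i := by
  induction R with
  | nil => simp [orbMask]
  | cons a as ih =>
    simp only [orbMask, List.foldr_cons, Nat.testBit_or, Bool.or_eq_true, Nat.testBit_two_pow,
      decide_eq_true_eq, List.exists_mem_cons_iff] at ih ⊢
    rw [ih]
    exact or_comm

/-- Points with the same orbit sizes as `x` in all `Rs` lie in the `Q`-orbit of `x` or of `y`. -/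
def orbitsOK (Rs : List (List ℕ)) (Q : List ℕ) (x y : ℕ) : Bool :=
  allBelow 24 fun j => !(Rs.all fun R => wt (orbMask R j) == wt (orbMask R x)) ||
    ((orbMask Q x).testBit j || (orbMask Q y).testBit j)

/-- The steps: the next point fixed, a companion point, and the point stabilisers compared. -/
def stepsOK (L inv : List ℕ) (der : List FixStep) :
    List (ℕ × ℕ × List (List ℕ)) → List ℕ → Bool
  | [], X => derivesAll (X.foldr (fun i m => m ||| 2 ^ i) 0) inv der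
  | (x, y, Ys) :: rest, X =>
    Nat.blt x 24 && Nat.blt y 24 && (Ys.all fun Y => Y.all fun z => X.contains z) &&
      orbitsOK (Ys.map fun Y => L.filter (fixesPts Y)) (L.filter (fixesPts X)) x y &&
      stepsOK L inv der rest (x :: X)

variable {G H : Subgroup (Equiv.Perm GolayPt)} {gs L : List ℕ} {k : ℕ}

theorem mem_filter_fix (h : IsTabGroup G H gs L k) {Y : List ℕ} (hY : ∀ y ∈ Y, y < 24) {t : ℕ} :
    t ∈ L.filter (fixesPts Y) ↔ ∃ σ ∈ H, t = tab σ ∧ ∀ y ∈ Y, σ (pt y) = pt y := by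
  rw [List.mem_filter, h.mem]
  constructor
  · rintro ⟨⟨σ, hσ, rfl⟩, hf⟩
    refine ⟨σ, hσ, rfl, fun y hy => idx_injective ?_⟩
    rw [idx_pt (hY y hy), ← app_tab σ (hY y hy)]
    exact beq_iff_eq.1 (List.all_eq_true.1 hf y hy)
  · rintro ⟨σ, hσ, rfl, hf⟩
    refine ⟨⟨σ, hσ, rfl⟩, List.all_eq_true.2 fun y hy => beq_iff_eq.2 ?_⟩
    rw [app_tab σ (hY y hy), hf y hy, idx_pt (hY y hy)]

/-- Membership in the orbit of a point under the stabiliser of `Y` in `H`. -/
theorem testBit_orbit (h : IsTabGroup G H gs L k) {Y : List ℕ} (hY : ∀ y ∈ Y, y < 24)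
    (q p : GolayPt) : (orbMask (L.filter (fixesPts Y)) (idx q)).testBit (idx p) = true ↔
      ∃ σ ∈ H, (∀ y ∈ Y, σ (pt y) = pt y) ∧ σ q = p := by
  rw [testBit_orbMask]
  constructor
  · rintro ⟨t, ht, e⟩
    obtain ⟨σ, hσ, rfl, hf⟩ := (mem_filter_fix h hY).1 ht
    rw [app_tab_idx] at e
    exact ⟨σ, hσ, hf, idx_injective e⟩
  · rintro ⟨σ, hσ, hf, rfl⟩
    exact ⟨tab σ, (mem_filter_fix h hY).2 ⟨σ, hσ, rfl, hf⟩, app_tab_idx σ q⟩

theorem wt_orbit_image (h : IsTabGroup G H gs L k) {Y : List ℕ} (hY : ∀ y ∈ Y, y < 24)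
    {g : Equiv.Perm GolayPt} (hfix : ∀ y ∈ Y, g (pt y) = pt y)
    (hg : ∀ σ, σ ∈ H ↔ g * σ * g⁻¹ ∈ H) (q : GolayPt) :
    wt (orbMask (L.filter (fixesPts Y)) (idx (g q))) =
      wt (orbMask (L.filter (fixesPts Y)) (idx q)) := by
  rw [← card_setOf24, ← card_setOf24]
  symm
  refine (Finset.card_image_of_injective _ g.injective).symm.trans (congrArg Finset.card ?_)
  have hfix' : ∀ y ∈ Y, g⁻¹ (pt y) = pt y := fun y hy => by
    conv_lhs => rw [← hfix y hy]
    exact perm_inv_apply g _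
  ext p
  simp only [Finset.mem_image, mem_setOf24, testBit_orbit h hY]
  constructor
  · rintro ⟨_, ⟨σ, hσ, hf, rfl⟩, rfl⟩
    refine ⟨g * σ * g⁻¹, (hg σ).1 hσ, fun y hy => ?_, ?_⟩
    · show g (σ (g⁻¹ (pt y))) = pt y
      rw [hfix' y hy, hf y hy, hfix y hy]
    · show g (σ (g⁻¹ (g q))) = g (σ q)
      rw [perm_inv_apply]
  · rintro ⟨σ, hσ, hf, rfl⟩
    refine ⟨(g⁻¹ * σ * g) q, ⟨g⁻¹ * σ * g, ?_, fun y hy => ?_, rfl⟩, ?_⟩
    · exact (hg _).2 (by
        rw [show g * (g⁻¹ * σ * g) * g⁻¹ = σ by group]; exact hσ)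
    · show g⁻¹ (σ (g (pt y))) = pt y
      rw [hfix y hy, hf y hy, hfix' y hy]
    · show g (g⁻¹ (σ (g q))) = σ (g q)
      exact perm_apply_inv g _

/-- An odd-order element fixing `X` that normalizes `H` maps `x` within its orbit. -/
theorem exists_orbit_apply (h : IsTabGroup G H gs L k) {X : List ℕ} {Ys : List (List ℕ)}
    (hX : ∀ y ∈ X, y < 24) (hYs : ∀ Y ∈ Ys, ∀ y ∈ Y, y ∈ X) {x y : ℕ} (hx : x < 24) (hy : y < 24)
    (hok : orbitsOK (Ys.map fun Y => L.filter (fixesPts Y)) (L.filter (fixesPts X)) x y = true)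
    {g : Equiv.Perm GolayPt} (hfix : ∀ z ∈ X, g (pt z) = pt z)
    (hg : ∀ σ, σ ∈ H ↔ g * σ * g⁻¹ ∈ H) (hodd : Odd (orderOf g)) :
    ∃ q ∈ H, (∀ z ∈ X, q (pt z) = pt z) ∧ q (pt x) = g (pt x) := by
  let O (q p : GolayPt) : Prop := ∃ σ ∈ H, (∀ z ∈ X, σ (pt z) = pt z) ∧ σ q = p
  -- the orbit-size signature is preserved by `g`
  let Same (p : GolayPt) : Prop := ∀ Y ∈ Ys,
    wt (orbMask (L.filter (fixesPts Y)) (idx p)) = wt (orbMask (L.filter (fixesPts Y)) x)
  have hstep : ∀ p, Same p → Same (g p) := fun p hp Y hY => by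
    rw [wt_orbit_image h (fun z hz => hX z (hYs Y hY z hz))
      (fun z hz => hfix z (hYs Y hY z hz)) hg p]
    exact hp Y hY
  have hclass' : ∀ p, Same p → O (pt x) p ∨ O (pt y) p := by
    intro p hp
    have h1 := allBelow_iff.1 hok (idx p) (idx_lt p)
    rw [Bool.or_eq_true, Bool.or_eq_true, Bool.not_eq_true', ← Bool.not_eq_true,
      List.all_eq_true] at h1
    rcases h1 with h1 | h1 | h1
    · refine absurd (fun R hR => ?_) h1
      obtain ⟨Y, hY, rfl⟩ := List.mem_map.1 hR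
      exact beq_iff_eq.2 (hp Y hY)
    · rw [← idx_pt hx, testBit_orbit h hX] at h1
      exact Or.inl h1
    · rw [← idx_pt hy, testBit_orbit h hX] at h1
      exact Or.inr h1
  have htrans : ∀ a b c, O a b → O b c → O a c := by
    rintro a b c ⟨σ, hσ, hf, rfl⟩ ⟨τ, hτ, hf', rfl⟩
    exact ⟨τ * σ, mul_mem hτ hσ, fun z hz => by
      show τ (σ (pt z)) = pt z
      rw [hf z hz, hf' z hz], rfl⟩
  have hsymm : ∀ a b, O a b → O b a := by
    rintro a b ⟨σ, hσ, hf, rfl⟩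
    exact ⟨σ⁻¹, inv_mem hσ, fun z hz => by
      conv_lhs => rw [← hf z hz]
      exact perm_inv_apply σ _, perm_inv_apply σ a⟩
  have hmap : ∀ a b, O a b → O (g a) (g b) := by
    rintro a b ⟨σ, hσ, hf, rfl⟩
    refine ⟨g * σ * g⁻¹, (hg σ).1 hσ, fun z hz => ?_, ?_⟩
    · show g (σ (g⁻¹ (pt z))) = pt z
      rw [show g⁻¹ (pt z) = pt z by
        conv_lhs => rw [← hfix z hz]
        exact perm_inv_apply g _, hf z hz, hfix z hz]
    · show g (σ (g⁻¹ (g a))) = g (σ a)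
      rw [perm_inv_apply]
  have hS0 : Same (pt x) := fun Y _ => by rw [idx_pt hx]
  rcases hclass' _ (hstep _ hS0) with h1 | h1
  · exact h1
  -- `g x` is in the orbit of `y`
  rcases hclass' _ (hstep _ (hstep _ hS0)) with h2 | h2
  · have h3 : ∀ m : ℕ, O (pt x) ((g ^ (2 * m)) (pt x)) := by
      intro m
      induction m with
      | zero => exact ⟨1, one_mem _, fun _ _ => rfl, rfl⟩
      | succ m ih =>
        have h4 := hmap _ _ (hmap _ _ ih)
        have e : (g ^ (2 * (m + 1))) (pt x) = g (g ((g ^ (2 * m)) (pt x))) := by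
          rw [show 2 * (m + 1) = 1 + (1 + 2 * m) by ring, pow_add, pow_add, pow_one]
          rfl
        rw [e]
        exact htrans _ _ _ h2 h4
    obtain ⟨r, hr⟩ := hodd
    have h5 := h3 (r + 1)
    rw [show 2 * (r + 1) = orderOf g + 1 by omega, pow_succ, pow_orderOf_eq_one, one_mul] at h5
    exact h5
  · have h4 := htrans _ _ _ (hsymm _ _ h2) h1
    -- `g (g x)` and `g x` share an orbit, hence so do `g x` and `x`
    obtain ⟨σ, hσ, hf, e⟩ := h4
    refine ⟨(g⁻¹ * σ * g)⁻¹, inv_mem ((hg _).2 ?_), fun z hz => ?_, ?_⟩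
    · rw [show g * (g⁻¹ * σ * g) * g⁻¹ = σ by group]; exact hσ
    · show (g⁻¹ * σ⁻¹ * g⁻¹⁻¹) (pt z) = pt z
      rw [inv_inv]
      show g⁻¹ (σ⁻¹ (g (pt z))) = pt z
      rw [hfix z hz]
      have e1 : σ⁻¹ (pt z) = pt z := by
        conv_lhs => rw [← hf z hz]
        exact perm_inv_apply σ _
      rw [e1]
      conv_lhs => rw [← hfix z hz]
      exact perm_inv_apply g _
    · rw [show (g⁻¹ * σ * g)⁻¹ = g⁻¹ * σ⁻¹ * g by group]
      show g⁻¹ (σ⁻¹ (g (pt x))) = g (pt x)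
      have e1 : σ⁻¹ (g (pt x)) = g (g (pt x)) := by
        conv_lhs => rw [← e]
        exact perm_inv_apply σ _
      rw [e1, perm_inv_apply]

/-- An element of odd order normalizing the tabulated group is trivial. -/
theorem eq_one_of_stepsOK (h : IsTabGroup G H gs L k) (hGM : G ≤ M24) {m : ℕ} (hm : Odd m)
    (hpow : ∀ g ∈ G, g ^ (2 ^ k * m) = 1)
    (hsyl : ∀ g ∈ G, (∀ σ, σ ∈ H ↔ g * σ * g⁻¹ ∈ H) → g ^ 2 ^ k = 1 → g ∈ H)
    {inv : List ℕ} (hinv : ∀ g ∈ G, ∀ a ∈ inv, (setOf24 a).image g = setOf24 a)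
    {der : List FixStep} : ∀ (steps : List (ℕ × ℕ × List (List ℕ))) (X : List ℕ),
      (∀ z ∈ X, z < 24) → stepsOK L inv der steps X = true → ∀ g ∈ G,
      (∀ z ∈ X, g (pt z) = pt z) → (∀ σ, σ ∈ H ↔ g * σ * g⁻¹ ∈ H) → Odd (orderOf g) → g = 1
  | [], X, hX, hok, g, hgG, hfix, _, _ => by
    refine derivesAll_sound (hGM hgG) der _ inv (fun p hp => ?_) (hinv g hgG) hok
    rw [mem_setOf24] at hp
    have hmask : ∀ (X : List ℕ) (i : ℕ),
        (X.foldr (fun i m => m ||| 2 ^ i) 0).testBit i = true → i ∈ X := by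
      intro X i
      induction X with
      | nil => simp
      | cons a as ih =>
        simp only [List.foldr_cons, Nat.testBit_or, Bool.or_eq_true, Nat.testBit_two_pow,
          decide_eq_true_eq, List.mem_cons]
        rintro (h | h)
        · exact Or.inr (ih h)
        · exact Or.inl h.symm
    have h1 := hfix _ (hmask X _ hp)
    rwa [pt_idx] at h1
  | (x, y, Ys) :: rest, X, hX, hok, g, hgG, hfix, hg, hodd => by
    simp only [stepsOK, Bool.and_eq_true, Nat.blt_eq] at hok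
    obtain ⟨⟨⟨⟨hx, hy⟩, hYs⟩, horb⟩, hrest⟩ := hok
    have hYs' : ∀ Y ∈ Ys, ∀ z ∈ Y, z ∈ X := fun Y hY z hz =>
      List.contains_iff_mem.1 (List.all_eq_true.1 (List.all_eq_true.1 hYs Y hY) z hz)
    obtain ⟨q, hq, hqf, hqx⟩ := exists_orbit_apply h hX hYs' hx hy horb hfix hg hodd
    have hg2G : q⁻¹ * g ∈ G := mul_mem (inv_mem (h.le hq)) hgG
    have hg2n : ∀ σ, σ ∈ H ↔ (q⁻¹ * g) * σ * (q⁻¹ * g)⁻¹ ∈ H := fun σ => by
      have e : (q⁻¹ * g) * σ * (q⁻¹ * g)⁻¹ = q⁻¹ * (g * σ * g⁻¹) * q := by group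
      rw [e, hg σ]
      refine ⟨fun h1 => mul_mem (mul_mem (inv_mem hq) h1) hq, fun h1 => ?_⟩
      have h2 := mul_mem (mul_mem hq h1) (inv_mem hq)
      simpa [mul_assoc] using h2
    have hg2f : ∀ z ∈ x :: X, (q⁻¹ * g) (pt z) = pt z := by
      intro z hz
      show q⁻¹ (g (pt z)) = pt z
      rcases List.mem_cons.1 hz with rfl | hz
      · rw [← hqx, perm_inv_apply]
      · rw [hfix z hz]
        conv_lhs => rw [← hqf z hz]
        exact perm_inv_apply q _
    have hpf : ∀ (n : ℕ), ∀ z ∈ x :: X, ((q⁻¹ * g) ^ n) (pt z) = pt z := by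
      intro n z hz
      induction n with
      | zero => rfl
      | succ n ih =>
        rw [pow_succ, Equiv.Perm.mul_apply, hg2f z hz, ih]
    have hpn : ∀ (n : ℕ) σ, σ ∈ H ↔ (q⁻¹ * g) ^ n * σ * ((q⁻¹ * g) ^ n)⁻¹ ∈ H := by
      intro n
      induction n with
      | zero => intro σ; simp
      | succ n ih =>
        intro σ
        rw [hg2n σ, ih ((q⁻¹ * g) * σ * (q⁻¹ * g)⁻¹)]
        rw [show (q⁻¹ * g) ^ n * ((q⁻¹ * g) * σ * (q⁻¹ * g)⁻¹) * ((q⁻¹ * g) ^ n)⁻¹ =
          (q⁻¹ * g) ^ (n + 1) * σ * ((q⁻¹ * g) ^ (n + 1))⁻¹ by rw [pow_succ]; group]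
    have hoddn : ∀ a ∈ G, Odd (orderOf (a ^ 2 ^ k)) := fun a ha => by
      refine Odd.of_dvd_nat hm (orderOf_dvd_of_pow_eq_one ?_)
      rw [← pow_mul]
      exact hpow a ha
    have h1 : (q⁻¹ * g) ^ 2 ^ k = 1 :=
      eq_one_of_stepsOK h hGM hm hpow hsyl hinv rest (x :: X)
        (fun z hz => (List.mem_cons.1 hz).elim (fun e => e ▸ hx) (hX z)) hrest _
        (pow_mem hg2G _) (hpf _) (hpn _) (hoddn _ hg2G)
    have hgH : g ∈ H := by
      have := mul_mem hq (hsyl _ hg2G hg2n h1)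
      simpa using this
    have h2 : orderOf g ∣ 2 ^ k := by
      rw [← h.card]
      exact Subgroup.orderOf_dvd_natCard H hgH
    obtain ⟨i, _, hi⟩ := (Nat.dvd_prime_pow Nat.prime_two).1 h2
    rcases i with _ | i
    · exact orderOf_eq_one_iff.1 (by simpa using hi)
    · rw [hi] at hodd
      exact absurd hodd (by simp [Nat.odd_pow_iff])

end CfsgLib.FusionSimple.MathieuTab
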