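/-
Simplicity of the 2-fusion system of a subgroup of `M24` from checked tables.
-/
import Cfsg.Agent.FusionSimple.Mathieu.Normalizer
import Cfsg.Agent.FusionSimple.Central

set_option autoImplicit false

namespace CfsgLib.FusionSimple.MathieuTab

open Cfsg CfsgLib.Mathieu

/-- Only the identity and `z` commute with all generators. -/
def centreOK (gs L : List ℕ) (z : ℕ) : Bool :=
  L.all fun t => t == idT || t == z || gs.any fun g => mulT g t != mulT t g

/-- A step showing that a table lies in every closed subgroup that contains the earlier ones. -/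
inductive CStep where
  | conj (i h c : ℕ)
  | mul (i j : ℕ)

/-- Run a chain of conjugations and products; it stops at the first step that does not check. -/
def chainRun (inG : ℕ → Bool) (L : List ℕ) : List CStep → List ℕ → List ℕ
  | [], env => env
  | .conj i h c :: rest, env =>
    match env[i]? with
    | some t =>
      if inG h && canon h && L.contains c && mulT c h == mulT h t then
        chainRun inG L rest (env ++ [c])
      else env
    | none => env
  | .mul i j :: rest, env =>
    match env[i]?, env[j]? with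
    | some a, some b => chainRun inG L rest (env ++ [mulT a b])
    | _, _ => env

variable {G H : Subgroup (Equiv.Perm GolayPt)} {gs L : List ℕ} {k : ℕ}

theorem chainRun_sound (h : IsTabGroup G H gs L k) {inG : ℕ → Bool}
    (hG : ∀ t, inG t = true → InGroup enc G t) {T : Subgroup (Equiv.Perm GolayPt)}
    (hT : ∀ x ∈ T, ∀ a ∈ G, a * x * a⁻¹ ∈ H → a * x * a⁻¹ ∈ T) :
    ∀ (steps : List CStep) (env : List ℕ), (∀ t ∈ env, ∃ σ ∈ T, t = tab σ) →
      ∀ t ∈ chainRun inG L steps env, ∃ σ ∈ T, t = tab σ
  | [], _, henv => henv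
  | .conj i a c :: rest, env, henv => by
    simp only [chainRun]
    split
    · rename_i t ht
      split
      · rename_i hc
        simp only [Bool.and_eq_true, beq_iff_eq, List.contains_iff_mem] at hc
        obtain ⟨⟨⟨h1, h2⟩, h3⟩, h4⟩ := hc
        obtain ⟨α, hα, rfl⟩ := exists_tab (hG a h1) h2
        obtain ⟨σ, hσ, rfl⟩ := henv t (List.mem_of_getElem? ht)
        obtain ⟨κ, hκ, rfl⟩ := (h.mem c).1 h3
        rw [mulT_tab, mulT_tab] at h4
        have e : α * σ * α⁻¹ = κ := by rw [← tab_injective h4, mul_inv_cancel_right]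
        refine chainRun_sound h hG hT rest _ fun s hs => ?_
        rcases List.mem_append.1 hs with hs | hs
        · exact henv s hs
        · exact ⟨κ, e ▸ hT σ hσ α hα (e.symm ▸ hκ), List.mem_singleton.1 hs⟩
      · exact henv
    · exact henv
  | .mul i j :: rest, env, henv => by
    simp only [chainRun]
    split
    · rename_i a b ha hb
      refine chainRun_sound h hG hT rest _ fun s hs => ?_
      rcases List.mem_append.1 hs with hs | hs
      · exact henv s hs
      · obtain ⟨α, hα, rfl⟩ := henv a (List.mem_of_getElem? ha)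
        obtain ⟨β, hβ, rfl⟩ := henv b (List.mem_of_getElem? hb)
        exact ⟨α * β, mul_mem hα hβ, by rw [List.mem_singleton.1 hs, mulT_tab]⟩
    · exact henv

/-- The data checked for one group. -/
structure Cert where
  pc : List (ℕ × List ℕ)
  z : ℕ
  chain : List CStep
  steps : List (ℕ × ℕ × List (List ℕ))
  der : List FixStep

/-- The check of the centre and of the chain reaching all generators. -/
def Cert.closedOK (C : Cert) (inG : ℕ → Bool) : Bool :=
  let L := pcElts C.pc [idT]
  let gs := pcGens C.pc []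
  L.contains C.z && centreOK gs L C.z &&
    let T := chainRun inG L C.chain [C.z]
    gs.all fun g => T.contains g

/-- The main criterion: from a certificate to simplicity of the fusion system. -/
theorem isSimple_of_cert (hGM : G ≤ M24) {inG : ℕ → Bool}
    (hG : ∀ t, inG t = true → InGroup enc G t) (C : Cert) {k m : ℕ} (hk : C.pc.length = k)
    (hk0 : k ≠ 0) (hm : m % 2 = 1) (hcard : Nat.card G = 2 ^ k * m)
    (hpc : pcOK inG C.pc [] [idT] = true) (hclosed : C.closedOK inG = true)
    {inv : List ℕ} (hinv : ∀ g ∈ G, ∀ a ∈ inv, (setOf24 a).image g = setOf24 a)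
    (hsteps : stepsOK (pcElts C.pc [idT]) inv C.der C.steps [] = true) (S : Sylow 2 G) :
    (groupFusionSystem (S : Subgroup G)).IsSimple 2 := by
  obtain ⟨H, hH⟩ := exists_isTabGroup hG C.pc (isTabGroup_bot G) hpc
  rw [Nat.zero_add, hk] at hH
  have hUcard : Nat.card (H.subgroupOf G) = 2 ^ k := by
    rw [Nat.card_congr (Subgroup.subgroupOfEquivOfLe hH.le).toEquiv, hH.card]
  have hUp : IsPGroup 2 (H.subgroupOf G) := IsPGroup.of_card hUcard
  have hidx : ¬ 2 ∣ (H.subgroupOf G).index := by
    have h1 := Subgroup.card_mul_index (H.subgroupOf G)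
    rw [hUcard, hcard] at h1
    rw [Nat.eq_of_mul_eq_mul_left (by positivity) h1]
    omega
  set U : Sylow 2 G := hUp.toSylow hidx with hU
  have hUcoe : (U : Subgroup G) = H.subgroupOf G := rfl
  have hmemU : ∀ g : G, g ∈ (U : Subgroup G) ↔ (g : Equiv.Perm GolayPt) ∈ H := fun g => by
    rw [hUcoe, Subgroup.mem_subgroupOf]
  simp only [Cert.closedOK, Bool.and_eq_true, List.contains_iff_mem, List.all_eq_true] at hclosed
  obtain ⟨⟨hz, hcentre⟩, hgen⟩ := hclosed
  refine isSimple_of_one_sylow U (fun hbot => ?_) (fun T hT => ?_) (fun g hg => ?_) S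
  · have : Nat.card (U : Subgroup G) = 1 := by rw [hbot]; exact Subgroup.card_bot
    rw [hUcoe, hUcard] at this
    exact hk0 (by simpa using this)
  · by_cases hT0 : T = ⊥
    · exact Or.inl hT0
    right
    obtain ⟨z, hzT, hz1, hzc⟩ := exists_central_of_closed U.isPGroup' hT hT0
    have hzH : (z : Equiv.Perm GolayPt) ∈ H := (hmemU z).1 (hT.1 hzT)
    have hzz : tab (z : Equiv.Perm GolayPt) = C.z := by
      have h1 := List.all_eq_true.1 hcentre _ ((hH.mem_iff _).2 hzH)
      simp only [Bool.or_eq_true, beq_iff_eq, List.any_eq_true, bne_iff_ne] at h1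
      rcases h1 with (h1 | h1) | ⟨a, ha, h1⟩
      · rw [← tab_one] at h1
        exact (hz1 (Subtype.ext (tab_injective h1))).elim
      · exact h1
      · obtain ⟨α, rfl⟩ := hH.tabs a ha
        have hαH : α ∈ H := by
          rw [hH.gen]; exact Subgroup.subset_closure ha
        refine absurd ?_ h1
        rw [mulT_tab, mulT_tab]
        exact congrArg tab (congrArg Subtype.val
          (hzc ⟨α, hH.le hαH⟩ ((hmemU _).2 hαH)) :)
    refine le_antisymm hT.1 fun u hu => ?_
    have hT' : ∀ x ∈ T.map G.subtype, ∀ a ∈ G, a * x * a⁻¹ ∈ H →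
        a * x * a⁻¹ ∈ T.map G.subtype := by
      rintro _ ⟨x, hx, rfl⟩ a ha hax
      exact ⟨⟨a, ha⟩ * x * (⟨a, ha⟩ : G)⁻¹, hT.2 x hx ⟨a, ha⟩ ((hmemU _).2 hax), rfl⟩
    have hsub := chainRun_sound hH hG hT' C.chain [C.z] (fun t ht => ⟨z, ⟨z, hzT, rfl⟩, by
      rw [List.mem_singleton.1 ht, hzz]⟩)
    have hle : H ≤ T.map G.subtype := by
      rw [hH.gen, Subgroup.closure_le]
      intro a ha
      obtain ⟨σ, hσ, e⟩ := hsub _ (hgen _ ha)
      rw [tab_injective e]
      exact hσ
    obtain ⟨u', hu', e⟩ := hle ((hmemU u).1 hu)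
    exact (Subtype.ext e : u' = u) ▸ hu'
  · refine Subgroup.subset_closure ⟨hg, Or.inl ?_⟩
    have hgn : ∀ a : G, a ∈ Subgroup.normalizer ((U : Subgroup G) : Set G) → ∀ σ, σ ∈ H ↔
        (a : Equiv.Perm GolayPt) * σ * (a : Equiv.Perm GolayPt)⁻¹ ∈ H := by
      intro a ha σ
      constructor
      · intro hσ
        exact (hmemU _).1 ((Subgroup.mem_normalizer_iff.1 ha ⟨σ, hH.le hσ⟩).1 ((hmemU _).2 hσ))
      · intro hσ
        have hσG : σ ∈ G := by
          have h1 := mul_mem (mul_mem (inv_mem a.2) (hH.le hσ)) a.2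
          simpa [mul_assoc] using h1
        exact (hmemU ⟨σ, hσG⟩).1 ((Subgroup.mem_normalizer_iff.1 ha ⟨σ, hσG⟩).2 ((hmemU _).2 hσ))
    have hsyl : ∀ a ∈ G, (∀ σ, σ ∈ H ↔ a * σ * a⁻¹ ∈ H) → a ^ 2 ^ k = 1 → a ∈ H := by
      intro a ha han hak
      have hZ : IsPGroup 2 (Subgroup.zpowers (⟨a, ha⟩ : G)) := by
        intro x
        obtain ⟨i, hi⟩ := x.2
        refine ⟨k, Subtype.ext ?_⟩
        show (x : G) ^ 2 ^ k = 1
        rw [← hi, ← zpow_natCast, ← zpow_mul, mul_comm, zpow_mul, zpow_natCast]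
        rw [show (⟨a, ha⟩ : G) ^ 2 ^ k = 1 from Subtype.ext hak, one_zpow]
      have h1 := IsPGroup.inf_normalizer_sylow hZ U
      have h2 : (⟨a, ha⟩ : G) ∈ Subgroup.normalizer ((U : Subgroup G) : Set G) := by
        rw [Subgroup.mem_normalizer_iff]
        intro y
        rw [hmemU, hmemU]
        exact han y
      have h3 : (⟨a, ha⟩ : G) ∈ Subgroup.zpowers (⟨a, ha⟩ : G) ⊓
          Subgroup.normalizer ((U : Subgroup G) : Set G) := ⟨Subgroup.mem_zpowers _, h2⟩
      exact (hmemU _).1 (h1.le h3).2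
    have hpow : ∀ a ∈ G, a ^ (2 ^ k * m) = 1 := fun a ha => by
      have h1 := congrArg Subtype.val (pow_card_eq_one' (x := (⟨a, ha⟩ : G)))
      rw [hcard] at h1
      exact h1
    have hm' : Odd m := Nat.odd_iff.2 hm
    have hodd : Odd (orderOf ((g : Equiv.Perm GolayPt) ^ 2 ^ k)) := by
      refine Odd.of_dvd_nat hm' (orderOf_dvd_of_pow_eq_one ?_)
      rw [← pow_mul]
      exact hpow _ g.2
    have h1 := eq_one_of_stepsOK hH hGM hm' hpow hsyl hinv C.steps [] (by simp) hsteps _
      (pow_mem g.2 _) (by simp) (hgn _ (pow_mem hg (2 ^ k))) hodd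
    exact (hmemU g).2 (hsyl _ g.2 (hgn g hg) h1)

end CfsgLib.FusionSimple.MathieuTab
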