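/-
The 2-fusion systems of the Mathieu groups on 22, 23 and 24 points are simple.
-/
import Cfsg.Agent.FusionSimple.Mathieu.Data
import Cfsg.Agent.Mathieu.SmallOrders

set_option autoImplicit false

namespace CfsgLib.FusionSimple.MathieuTab

open Cfsg CfsgLib.Mathieu

/-- Whether a table is that of a member of `M24`. -/
def inM24 (t : ℕ) : Bool := tableValid t && preservesCode t

theorem inGroup_of_inM24 {t : ℕ} (h : inM24 t = true) : InGroup enc M24 t := by
  simp only [inM24, Bool.and_eq_true] at h
  obtain ⟨σ, r⟩ := exists_rep_of_valid h.1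
  exact ⟨σ, mem_M24_of_table r h.2, r⟩

theorem isSimple_fusion_M22 (S : Sylow 2 Spor.M22) :
    (groupFusionSystem (S : Subgroup Spor.M22)).IsSimple 2 := by
  refine isSimple_of_cert (inG := fun t => inM24 t && app t 23 == 23 && app t 0 == 0) SporM22_le
    (fun t ht => ?_) m22Cert (k := 7) (m := 3465) (by decide +kernel) (by norm_num) (by norm_num)
    (by rw [card_SporM22]; norm_num) (by decide +kernel) (by decide +kernel)
    (inv := []) (by simp) (by decide +kernel) S
  simp only [Bool.and_eq_true, beq_iff_eq] at ht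
  obtain ⟨σ, hσ, r⟩ := inGroup_of_inM24 ht.1.1
  exact ⟨σ, mem_SporM22.2 ⟨⟨hσ, r.apply_eq enc ht.1.2⟩, r.apply_eq enc ht.2⟩, r⟩

theorem isSimple_fusion_M23 (S : Sylow 2 Spor.M23) :
    (groupFusionSystem (S : Subgroup Spor.M23)).IsSimple 2 := by
  refine isSimple_of_cert (inG := fun t => inM24 t && app t 23 == 23) SporM23_le
    (fun t ht => ?_) m23Cert (k := 7) (m := 79695) (by decide +kernel) (by norm_num) (by norm_num)
    (by rw [card_SporM23]; norm_num) (by decide +kernel) (by decide +kernel)
    (inv := []) (by simp) (by decide +kernel) S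
  simp only [Bool.and_eq_true, beq_iff_eq] at ht
  obtain ⟨σ, hσ, r⟩ := inGroup_of_inM24 ht.1
  exact ⟨σ, mem_SporM23.2 ⟨hσ, r.apply_eq enc ht.2⟩, r⟩

theorem isSimple_fusion_M24 (S : Sylow 2 M24) :
    (groupFusionSystem (S : Subgroup M24)).IsSimple 2 :=
  isSimple_of_cert (inG := inM24) le_rfl (fun _ ht => inGroup_of_inM24 ht) m24Cert
    (k := 10) (m := 239085) (by decide +kernel) (by norm_num) (by norm_num)
    (by rw [card_M24]; norm_num) (by decide +kernel) (by decide +kernel)
    (inv := []) (by simp) (by decide +kernel) S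

end CfsgLib.FusionSimple.MathieuTab
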