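/-
The 2-fusion systems of the Mathieu groups on 11 and 12 points are simple.
-/
import Cfsg.Agent.FusionSimple.Mathieu.Data
import Cfsg.Agent.Mathieu.SmallOrders

set_option autoImplicit false

namespace CfsgLib.FusionSimple.MathieuTab

open Cfsg CfsgLib.Mathieu

theorem isSimple_fusion_M11 (S : Sylow 2 Spor.M11) :
    (groupFusionSystem (S : Subgroup Spor.M11)).IsSimple 2 := by
  refine isSimple_of_cert (inG := fun t => inM12 t && app t 0 == 0) SporM11_le (fun t ht => ?_)
    m11Cert (k := 4) (m := 495) (by decide +kernel) (by norm_num) (by norm_num)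
    (by rw [card_SporM11]; norm_num) (by decide +kernel) (by decide +kernel)
    (inv := [m12Dodecad]) (fun g hg a ha => ?_) (by decide +kernel) S
  · simp only [Bool.and_eq_true, beq_iff_eq] at ht
    obtain ⟨σ, hσ, r⟩ := inGroup_of_inM12 ht.1
    refine ⟨σ, mem_SporM11.2 ⟨hσ, r.apply_eq enc ?_⟩, r⟩
    exact ht.2
  · rw [List.mem_singleton.1 ha]
    exact (mem_SporM12.1 (mem_SporM11.1 hg).1).2

theorem isSimple_fusion_M12 (S : Sylow 2 Spor.M12) :
    (groupFusionSystem (S : Subgroup Spor.M12)).IsSimple 2 := by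
  refine isSimple_of_cert (inG := inM12) SporM12_le (fun t ht => inGroup_of_inM12 ht) m12Cert
    (k := 6) (m := 1485) (by decide +kernel) (by norm_num) (by norm_num)
    (by rw [card_SporM12]; norm_num) (by decide +kernel) (by decide +kernel)
    (inv := [m12Dodecad]) (fun g hg a ha => ?_) (by decide +kernel) S
  rw [List.mem_singleton.1 ha]
  exact (mem_SporM12.1 hg).2

end CfsgLib.FusionSimple.MathieuTab
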